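import Mathlib.CategoryTheory.Triangulated.Triangulated

/-!
# Homotopy cartesian squares from morphisms of triangles
-/

universe v u

open CategoryTheory CategoryTheory.Limits CategoryTheory.Pretriangulated

namespace Groth.Agent.Lib.MVSquare.Cartesian

set_option backward.isDefEq.respectTransparency false

variable {D : Type u} [Category.{v} D] [Preadditive D] [HasZeroObject D] [HasShift D ℤ]
  [∀ n : ℤ, (shiftFunctor D n).Additive] [Pretriangulated D]

variable {X Y C X' Y' C' : D} {f : X ⟶ Y} {g : Y ⟶ C} {h : C ⟶ X⟦(1 : ℤ)⟧}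
  (hT : Triangle.mk f g h ∈ distTriang D)
  {f' : X' ⟶ Y'} {g' : Y' ⟶ C'} {h' : C' ⟶ X'⟦(1 : ℤ)⟧}
  (hT' : Triangle.mk f' g' h' ∈ distTriang D)
  {a : X ⟶ X'} {b : Y ⟶ Y'} {θ : C ⟶ C'} [IsIso θ]
  (e₁ : f ≫ b = a ≫ f') (e₂ : g ≫ θ = b ≫ g') (e₃ : h ≫ a⟦(1 : ℤ)⟧' = θ ≫ h')
  (orth : ∀ v : C ⟶ Y', v = 0)

include hT hT' e₁ e₂ e₃ orth

/-- The square is homotopy cartesian, with an explicit connecting map. -/
theorem distinguished [IsTriangulated D] :
    Triangle.mk (biprod.lift f a) (biprod.desc b (-f')) (g' ≫ inv θ ≫ h) ∈ distTriang D := by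
  obtain ⟨Z, q, d₀, hl⟩ := distinguished_cocone_triangle (biprod.lift f a)
  have hfst : Triangle.mk (biprod.fst : Y ⊞ X' ⟶ Y) (0 : Y ⟶ X'⟦(1 : ℤ)⟧)
      (-(biprod.inr : X' ⟶ Y ⊞ X')⟦(1 : ℤ)⟧') ∈ distTriang D := by
    refine isomorphic_distinguished _ (rot_of_distTriang _
      (binaryBiproductTriangle_distinguished X' Y)) _ ?_
    exact Triangle.isoMk _ _ (biprod.braiding Y X') (Iso.refl _) (Iso.refl _)
      (by simp [binaryBiproductTriangle, Triangle.rotate]; exact (biprod.lift_snd _ _).symm)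
      (by simp [binaryBiproductTriangle, Triangle.rotate])
      (by simp [binaryBiproductTriangle, Triangle.rotate, ← Functor.map_comp]
          congr 1
          apply biprod.hom_ext <;> simp)
  let o := Triangulated.someOctahedron (biprod.lift_fst f a) hl hfst hT
  have hm₃ : o.m₃ = -(h ≫ a⟦(1 : ℤ)⟧') := by
    have := o.comm₄ =≫ (biprod.snd : Y ⊞ X' ⟶ X')⟦(1 : ℤ)⟧'
    simp [← Functor.map_comp] at this
    rw [this, neg_neg]
  obtain ⟨v, hv₁, hv₂⟩ := complete_distinguished_triangle_morphism₁ _ _ o.mem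
    (rot_of_distTriang _ hT') θ (-𝟙 _) (by
      change o.m₃ ≫ (-𝟙 _) = θ ≫ h'
      rw [hm₃, ← e₃]
      simp)
  change Z ⟶ Y' at v
  have hv₁' : o.m₁ ≫ θ = v ≫ g' := hv₁
  have hv₂' : (biprod.inr : X' ⟶ Y ⊞ X') ≫ q ≫ v = -f' := by
    apply (shiftFunctor D (1 : ℤ)).map_injective
    have := hv₂
    simp at this
    rw [CategoryTheory.Functor.map_neg]
    rw [← Functor.map_comp, ← Functor.map_comp] at this
    exact neg_eq_iff_eq_neg.1 this
  have hviso : IsIso v := by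
    refine isIso₁_of_isIso₂₃
      (Triangle.homMk (Triangle.mk o.m₁ o.m₃ _) (Triangle.mk f' g' h').rotate v θ (-𝟙 _)
        hv₁ ?_ hv₂) o.mem (rot_of_distTriang _ hT') ‹IsIso θ› ?_
    · change o.m₃ ≫ (-𝟙 _) = θ ≫ h'
      rw [hm₃, ← e₃]
      simp
    · exact ⟨-𝟙 _, by simp, by simp⟩
  have hlq : biprod.lift f a ≫ q = 0 := comp_distTriang_mor_zero₁₂ _ hl
  have hlβ : biprod.lift f a ≫ biprod.desc b (-f') = 0 := by
    rw [biprod.lift_desc, e₁, Preadditive.comp_neg, add_neg_cancel]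
  have hqv : q ≫ v = biprod.desc b (-f') := by
    let w : Y ⟶ Y' := biprod.inl ≫ q ≫ v - b
    have hD : q ≫ v - biprod.desc b (-f') = biprod.fst ≫ w := by
      apply biprod.hom_ext'
      · simp [w]
      · simp [w, hv₂']
    have hfw : f ≫ w = 0 := by
      have : biprod.lift f a ≫ (q ≫ v - biprod.desc b (-f')) = 0 := by
        rw [Preadditive.comp_sub, ← Category.assoc, hlq, zero_comp, hlβ, sub_zero]
      rwa [hD, biprod.lift_fst_assoc] at this
    obtain ⟨w', hw'⟩ := Triangle.yoneda_exact₂ _ hT w hfw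
    have hw0 : w = 0 := hw'.trans ((congrArg (_ ≫ ·) (orth w')).trans comp_zero)
    rw [← sub_eq_zero, hD, hw0, comp_zero]
  refine isomorphic_distinguished _ hl _ (Iso.symm ?_)
  refine Triangle.isoMk _ _ (Iso.refl _) (Iso.refl _) (asIso v) (by simp) (by simpa using hqv) ?_
  have : o.m₁ ≫ h = d₀ := o.comm₂
  dsimp
  erw [CategoryTheory.Functor.map_id]
  refine (Category.comp_id _).trans ?_
  change d₀ = v ≫ g' ≫ inv θ ≫ h
  rw [← reassoc_of% hv₁', IsIso.hom_inv_id_assoc, this]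

omit hT hT' e₁ e₂ e₃ in
/-- The connecting map kills all maps into the corner. -/
lemma connecting_comp_eq_zero (s : X⟦(1 : ℤ)⟧ ⟶ Y') : (g' ≫ inv θ ≫ h) ≫ s = 0 := by
  rw [Category.assoc, Category.assoc, orth (h ≫ s), comp_zero, comp_zero]

/-- The connecting map is unique. -/
theorem connecting_unique [IsTriangulated D] (d : Y' ⟶ X⟦(1 : ℤ)⟧)
    (hd : Triangle.mk (biprod.lift f a) (biprod.desc b (-f')) d ∈ distTriang D) :
    d = g' ≫ inv θ ≫ h := by
  obtain ⟨c, hc₂, hc₃⟩ := complete_distinguished_triangle_morphism _ _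
    (distinguished hT hT' e₁ e₂ e₃ orth) hd (𝟙 X) (𝟙 (Y ⊞ X'))
    ((Category.comp_id _).trans (Category.id_comp _).symm)
  change Y' ⟶ Y' at c
  obtain ⟨s, hs⟩ := Triangle.yoneda_exact₃ _ (distinguished hT hT' e₁ e₂ e₃ orth) (c - 𝟙 Y') (by
    change biprod.desc b (-f') ≫ (c - 𝟙 Y') = 0
    rw [Preadditive.comp_sub, Category.comp_id, sub_eq_zero]
    exact hc₂.trans (Category.id_comp _))
  have : c = 𝟙 Y' := sub_eq_zero.1 (hs.trans (connecting_comp_eq_zero orth s))
  subst this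
  simp at hc₃
  refine (Category.id_comp _).symm.trans (hc₃.symm.trans ?_)
  erw [CategoryTheory.Functor.map_id, Category.comp_id]
  try rfl

end Groth.Agent.Lib.MVSquare.Cartesian
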