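import Groth.Prelude.Def_W4c3perfectstacksMV
import Groth.Agent.Lib.MVSquare.Cartesian
import Groth.Agent.Lib.Postnikov.Basic
import Mathlib.CategoryTheory.Triangulated.Adjunction

/-!
# Mayer–Vietoris squares of triangulated categories
-/

universe v u

open CategoryTheory CategoryTheory.Limits CategoryTheory.Pretriangulated

namespace Groth.Agent.Lib.MVSquare.Basic

set_option backward.isDefEq.respectTransparency false

variable {S S' R R' : Type u} [Category.{v} S] [Category.{v} S'] [Category.{v} R] [Category.{v} R']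
  [Preadditive S] [Preadditive S'] [Preadditive R] [Preadditive R']
  [HasZeroObject S] [HasZeroObject S'] [HasZeroObject R] [HasZeroObject R']
  [HasShift S ℤ] [HasShift S' ℤ] [HasShift R ℤ] [HasShift R' ℤ]
  [∀ n : ℤ, (shiftFunctor S n).Additive] [∀ n : ℤ, (shiftFunctor S' n).Additive]
  [∀ n : ℤ, (shiftFunctor R n).Additive] [∀ n : ℤ, (shiftFunctor R' n).Additive]
  [Pretriangulated S] [Pretriangulated S'] [Pretriangulated R] [Pretriangulated R']
  (q : W4c3perfectstacks.MVSq S S' R R')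
  [q.jst.CommShift ℤ] [q.fst.CommShift ℤ] [q.jpst.CommShift ℤ] [q.gst.CommShift ℤ]
  [q.jst.IsTriangulated] [q.fst.IsTriangulated] [q.jpst.IsTriangulated] [q.gst.IsTriangulated]

instance gls_additive : q.gls.Additive := q.adjG.right_adjoint_additive
instance fls_additive : q.fls.Additive := q.adjF.right_adjoint_additive

lemma isZero_jst_shift {K : S} (h : IsZero (q.jst.obj K)) (n : ℤ) :
    IsZero (q.jst.obj (K⟦n⟧)) :=
  ((shiftFunctor R n).map_isZero h).of_iso ((q.jst.commShiftIso n).app K)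

lemma isZero_jpst_shift {M : S'} (h : IsZero (q.jpst.obj M)) (n : ℤ) :
    IsZero (q.jpst.obj (M⟦n⟧)) :=
  ((shiftFunctor R' n).map_isZero h).of_iso ((q.jpst.commShiftIso n).app M)

lemma isZero_jpst_fst {K : S} (h : IsZero (q.jst.obj K)) :
    IsZero (q.jpst.obj (q.fst.obj K)) :=
  (q.gst.map_isZero h).of_iso (q.e.app K).symm

lemma isZero_jst_fls (hbc : ∀ M : S', IsIso (q.bcApp M)) {M : S'} (h : IsZero (q.jpst.obj M)) :
    IsZero (q.jst.obj (q.fls.obj M)) := by
  have := hbc M
  exact (q.gls.map_isZero h).of_iso (asIso (q.bcApp M))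

lemma hom_jls_eq_zero {K : S} (h : IsZero (q.jst.obj K)) {P : R} (v : K ⟶ q.jls.obj P) : v = 0 :=
  (q.adjJ.homEquiv K P).symm.injective (h.eq_of_src _ _)

lemma hom_fls_jpls_eq_zero {K : S} (h : IsZero (q.jst.obj K)) {Q : R'}
    (v : K ⟶ q.fls.obj (q.jpls.obj Q)) : v = 0 :=
  (q.adjF.homEquiv K _).symm.injective ((q.adjJp.homEquiv _ Q).symm.injective
    ((isZero_jpst_fst q h).eq_of_src _ _))

variable {q} in
lemma hom_fst_jls_eq_zero (hq : q.IsMV) {K : S} (h : IsZero (q.jst.obj K)) {P : R}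
    (v : q.fst.obj K ⟶ q.fst.obj (q.jls.obj P)) : v = 0 := by
  have := hq.isIso_bc2App P
  rw [← cancel_mono (q.bc2App P), zero_comp]
  exact (q.adjJp.homEquiv _ _).symm.injective ((isZero_jpst_fst q h).eq_of_src _ _)

variable {q} in
lemma hom_ff_jls_eq_zero (hq : q.IsMV) {K : S} (h : IsZero (q.jst.obj K)) {P : R}
    (v : K ⟶ q.fls.obj (q.fst.obj (q.jls.obj P))) : v = 0 :=
  (q.adjF.homEquiv _ _).symm.injective
    ((hom_fst_jls_eq_zero hq h _).trans (hom_fst_jls_eq_zero hq h _).symm)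

lemma fst_map_eq (K N : S) (g : K ⟶ N) :
    q.fst.map g = (q.adjF.homEquiv K (q.fst.obj N)).symm (g ≫ q.adjF.unit.app N) := by
  rw [Equiv.eq_symm_apply, Adjunction.homEquiv_unit]
  exact (q.adjF.unit.naturality g).symm

variable {q} (hq : q.IsMV)
include hq

lemma isIso_jst_unit (N : S) : IsIso (q.jst.map (q.adjJ.unit.app N)) := by
  have := hq.isIso_counitJ
  have : IsIso (q.jst.map (q.adjJ.unit.app N) ≫ q.adjJ.counit.app (q.jst.obj N)) := by
    erw [q.adjJ.left_triangle_components]; exact IsIso.id _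
  exact IsIso.of_isIso_comp_right _ (q.adjJ.counit.app (q.jst.obj N))

lemma bijective_fst_map {K : S} (hK : IsZero (q.jst.obj K)) (N : S) :
    Function.Bijective (fun g : K ⟶ N => q.fst.map g) := by
  have base : ∀ N₀ : S, IsZero (q.jst.obj N₀) →
      Function.Bijective (fun g : K ⟶ N₀ => q.fst.map g) := fun N₀ h₀ => by
    have := hq.isIso_unitF N₀ h₀
    simp only [fst_map_eq q K N₀]
    refine (Equiv.bijective _).comp ⟨fun a b hab => (cancel_mono _).1 hab, fun b => ?_⟩
    exact ⟨b ≫ inv (q.adjF.unit.app N₀), by simp⟩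
  obtain ⟨K₀, i, h, hT⟩ := distinguished_cocone_triangle₁ (q.adjJ.unit.app N)
  have hK₀ : IsZero (q.jst.obj K₀) :=
    (Triangle.isZero₁_iff_isIso₂ _ (q.jst.map_distinguished _ hT)).2 (isIso_jst_unit hq N)
  have hfT := q.fst.map_distinguished _ hT
  constructor
  · suffices hinj : ∀ g : K ⟶ N, q.fst.map g = 0 → g = 0 by
      intro a b hab
      exact sub_eq_zero.1 (hinj _ (by rw [Functor.map_sub]; exact sub_eq_zero.2 hab))
    intro g hg
    obtain ⟨g', hg'⟩ := Triangle.coyoneda_exact₂ _ hT g (hom_jls_eq_zero q hK _)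
    have h0 : q.fst.map g' = 0 :=
      Postnikov.Basic.eq_zero_of_comp_mor₁ hfT (fun x => by
        rw [← cancel_epi ((q.fst.commShiftIso (1 : ℤ)).hom.app K), comp_zero]
        exact hom_fst_jls_eq_zero hq (isZero_jst_shift q hK 1) _) (q.fst.map g') (by
          change q.fst.map g' ≫ q.fst.map i = 0
          rw [← q.fst.map_comp, ← hg, hg']
          rfl)
    have : g' = 0 := (base K₀ hK₀).injective (h0.trans (q.fst.map_zero _ _).symm)
    rw [hg', this, zero_comp]
  · intro φ
    obtain ⟨φ', hφ'⟩ := Triangle.coyoneda_exact₂ _ hfT φ (hom_fst_jls_eq_zero hq hK _)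
    obtain ⟨g', hg'⟩ := (base K₀ hK₀).surjective φ'
    refine ⟨g' ≫ i, ?_⟩
    change q.fst.map (g' ≫ i) = φ
    rw [hφ', q.fst.map_comp]
    exact congrArg (· ≫ q.fst.map i) hg'

/-- The Mayer–Vietoris triangle. -/
theorem exists_mv [IsTriangulated S] (N : S) :
    ∃ d₀ : q.fls.obj (q.fst.obj (q.jls.obj (q.jst.obj N))) ⟶ N⟦(1 : ℤ)⟧,
      Triangle.mk (biprod.lift (q.adjJ.unit.app N) (q.adjF.unit.app N))
        (biprod.desc (q.adjF.unit.app (q.jls.obj (q.jst.obj N)))
          (-(q.fls.map (q.fst.map (q.adjJ.unit.app N))))) d₀ ∈ distTriang S ∧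
      (∀ d : q.fls.obj (q.fst.obj (q.jls.obj (q.jst.obj N))) ⟶ N⟦(1 : ℤ)⟧,
        Triangle.mk (biprod.lift (q.adjJ.unit.app N) (q.adjF.unit.app N))
          (biprod.desc (q.adjF.unit.app (q.jls.obj (q.jst.obj N)))
            (-(q.fls.map (q.fst.map (q.adjJ.unit.app N))))) d ∈ distTriang S → d = d₀) ∧
      ∀ (P : R) (s : N⟦(1 : ℤ)⟧ ⟶ q.fls.obj (q.fst.obj (q.jls.obj P))), d₀ ≫ s = 0 := by
  letI := q.adjF.rightAdjointCommShift ℤ
  haveI := q.adjF.commShift_of_leftAdjoint ℤ
  haveI : q.fls.IsTriangulated := q.adjF.isTriangulated_rightAdjoint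
  obtain ⟨C, g, h, hT⟩ := distinguished_cocone_triangle (q.adjJ.unit.app N)
  have hC : IsZero (q.jst.obj C) :=
    (Triangle.isZero₃_iff_isIso₁ _ (q.jst.map_distinguished _ hT)).2 (isIso_jst_unit hq N)
  let T' := (q.fst ⋙ q.fls).mapTriangle.obj (Triangle.mk (q.adjJ.unit.app N) g h)
  have hT' : T' ∈ distTriang S := (q.fst ⋙ q.fls).map_distinguished _ hT
  have : IsIso (q.adjF.unit.app C) := hq.isIso_unitF C hC
  have orth : ∀ v : C ⟶ q.fls.obj (q.fst.obj (q.jls.obj (q.jst.obj N))), v = 0 :=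
    fun v => hom_ff_jls_eq_zero hq hC v
  have e₁ : q.adjJ.unit.app N ≫ q.adjF.unit.app (q.jls.obj (q.jst.obj N)) =
      q.adjF.unit.app N ≫ q.fls.map (q.fst.map (q.adjJ.unit.app N)) :=
    q.adjF.unit.naturality _
  have e₂ : g ≫ q.adjF.unit.app C =
      q.adjF.unit.app (q.jls.obj (q.jst.obj N)) ≫ q.fls.map (q.fst.map g) :=
    q.adjF.unit.naturality _
  have e₃ : h ≫ (q.adjF.unit.app N)⟦(1 : ℤ)⟧' = q.adjF.unit.app C ≫ T'.mor₃ := by
    change _ = q.adjF.unit.app C ≫ (q.fst ⋙ q.fls).map h ≫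
      ((q.fst ⋙ q.fls).commShiftIso (1 : ℤ)).hom.app N
    rw [← q.adjF.unit.naturality_assoc h]
    erw [q.adjF.unit_app_commShiftIso_hom_app]
    rfl
  refine ⟨T'.mor₂ ≫ inv (q.adjF.unit.app C) ≫ h,
    Cartesian.distinguished hT hT' e₁ e₂ e₃ orth,
    fun d hd => Cartesian.connecting_unique hT hT' e₁ e₂ e₃ orth d hd, fun P s => ?_⟩
  rw [Category.assoc, Category.assoc, hom_ff_jls_eq_zero hq hC (h ≫ s), comp_zero, comp_zero]

theorem existsUnique_mv [IsTriangulated S] (N : S) :
    ∃! d : q.fls.obj (q.fst.obj (q.jls.obj (q.jst.obj N))) ⟶ N⟦(1 : ℤ)⟧,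
      Triangle.mk (biprod.lift (q.adjJ.unit.app N) (q.adjF.unit.app N))
        (biprod.desc (q.adjF.unit.app (q.jls.obj (q.jst.obj N)))
          (-(q.fls.map (q.fst.map (q.adjJ.unit.app N))))) d ∈ distTriang S := by
  obtain ⟨d₀, h₁, h₂, -⟩ := exists_mv hq N
  exact ⟨d₀, h₁, h₂⟩

theorem mv_natural [IsTriangulated S] {N₁ N₂ : S} (φ : N₁ ⟶ N₂)
    (d₁ : q.fls.obj (q.fst.obj (q.jls.obj (q.jst.obj N₁))) ⟶ N₁⟦(1 : ℤ)⟧)
    (d₂ : q.fls.obj (q.fst.obj (q.jls.obj (q.jst.obj N₂))) ⟶ N₂⟦(1 : ℤ)⟧)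
    (h₁ : Triangle.mk (biprod.lift (q.adjJ.unit.app N₁) (q.adjF.unit.app N₁))
        (biprod.desc (q.adjF.unit.app (q.jls.obj (q.jst.obj N₁)))
          (-(q.fls.map (q.fst.map (q.adjJ.unit.app N₁))))) d₁ ∈ distTriang S)
    (h₂ : Triangle.mk (biprod.lift (q.adjJ.unit.app N₂) (q.adjF.unit.app N₂))
        (biprod.desc (q.adjF.unit.app (q.jls.obj (q.jst.obj N₂)))
          (-(q.fls.map (q.fst.map (q.adjJ.unit.app N₂))))) d₂ ∈ distTriang S) :
    d₁ ≫ (shiftFunctor S (1 : ℤ)).map φ =
      q.fls.map (q.fst.map (q.jls.map (q.jst.map φ))) ≫ d₂ := by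
  obtain ⟨d₀, -, hu, hkill⟩ := exists_mv hq N₁
  obtain rfl := hu d₁ h₁
  let w := q.fls.map (q.fst.map (q.jls.map (q.jst.map φ)))
  have n₁ : q.adjJ.unit.app N₁ ≫ q.jls.map (q.jst.map φ) = φ ≫ q.adjJ.unit.app N₂ :=
    (q.adjJ.unit.naturality φ).symm
  have n₂ : q.adjF.unit.app N₁ ≫ q.fls.map (q.fst.map φ) = φ ≫ q.adjF.unit.app N₂ :=
    (q.adjF.unit.naturality φ).symm
  obtain ⟨c, hc₂, hc₃⟩ := complete_distinguished_triangle_morphism _ _ h₁ h₂ φ
    (biprod.map (q.jls.map (q.jst.map φ)) (q.fls.map (q.fst.map φ))) (by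
      change biprod.lift _ _ ≫ biprod.map _ _ = φ ≫ biprod.lift _ _
      apply biprod.hom_ext <;> simp [n₁, n₂])
  change q.fls.obj (q.fst.obj (q.jls.obj (q.jst.obj N₁))) ⟶
    q.fls.obj (q.fst.obj (q.jls.obj (q.jst.obj N₂))) at c
  obtain ⟨s, hs⟩ := Triangle.yoneda_exact₃ _ h₁ (c - w) (by
    change biprod.desc _ _ ≫ (c - w) = 0
    rw [Preadditive.comp_sub, sub_eq_zero]
    refine hc₂.trans ?_
    change biprod.map _ _ ≫ biprod.desc _ _ = biprod.desc _ _ ≫ w
    apply biprod.hom_ext'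
    · simp [w]
    · simp only [w, biprod.inr_map_assoc, biprod.inr_desc, biprod.inr_desc_assoc,
        Preadditive.comp_neg, Preadditive.neg_comp, ← Functor.map_comp, n₁])
  have hcw : c = w := sub_eq_zero.1 (hs.trans (hkill _ s))
  subst hcw
  exact hc₃

theorem bijective_of_kernel {M : S'} (hM : IsZero (q.jpst.obj M)) (N : S) :
    Function.Bijective (fun g : q.fls.obj M ⟶ N => q.fst.map g) :=
  bijective_fst_map hq (isZero_jst_fls q hq.isIso_bcApp hM) N

lemma isIso_jst_fls_map {M M' : S'} (γ : M ⟶ M') (h : IsIso (q.jpst.map γ)) :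
    IsIso (q.jst.map (q.fls.map γ)) := by
  have := hq.isIso_bcApp M
  have := hq.isIso_bcApp M'
  have hnat : q.jst.map (q.fls.map γ) ≫ q.bcApp M' = q.bcApp M ≫ q.gls.map (q.jpst.map γ) := by
    simp only [W4c3perfectstacks.MVSq.bcApp, Category.assoc, ← Functor.map_comp]
    erw [q.adjG.unit.naturality_assoc (q.jst.map (q.fls.map γ))]
    simp only [Functor.comp_map, ← Functor.map_comp]
    have := q.e.hom.naturality (q.fls.map γ)
    simp only [Functor.comp_map] at this
    rw [reassoc_of% this, ← Functor.map_comp]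
    have hc := q.adjF.counit.naturality γ
    simp only [Functor.comp_map, Functor.id_map] at hc
    rw [hc]
  have : IsIso (q.jst.map (q.fls.map γ) ≫ q.bcApp M') := by rw [hnat]; infer_instance
  exact IsIso.of_isIso_comp_right _ (q.bcApp M')

/-- Glueing. -/
theorem glue (NU : R) (N' : S') (δ : q.jpst.obj N' ≅ q.gst.obj NU) (N : S)
    (a : N ⟶ q.jls.obj NU ⊞ q.fls.obj N')
    (d : q.fls.obj (q.jpls.obj (q.gst.obj NU)) ⟶ N⟦(1 : ℤ)⟧)
    (hT : Triangle.mk a
      (biprod.desc (q.adjF.unit.app (q.jls.obj NU) ≫ q.fls.map (q.bc2App NU))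
        (-(q.fls.map (q.adjJp.unit.app N' ≫ q.jpls.map δ.hom)))) d ∈ distTriang S) :
    IsIso ((q.adjJ.homEquiv N NU).symm (a ≫ biprod.fst)) ∧
      IsIso ((q.adjF.homEquiv N N').symm (a ≫ biprod.snd)) := by
  let γ := q.adjJp.unit.app N' ≫ q.jpls.map δ.hom
  let b := biprod.desc (q.adjF.unit.app (q.jls.obj NU) ≫ q.fls.map (q.bc2App NU))
    (-(q.fls.map γ))
  have hab : a ≫ b = 0 := comp_distTriang_mor_zero₁₂ _ hT
  have := hq.isIso_counitJp
  have := hq.isIso_counitJ
  have hjγ : IsIso (q.jpst.map γ) := by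
    have h1 : IsIso (q.jpst.map (q.adjJp.unit.app N') ≫
        q.adjJp.counit.app (q.jpst.obj N')) := by
      erw [q.adjJp.left_triangle_components]; exact IsIso.id _
    have : IsIso (q.jpst.map (q.adjJp.unit.app N')) :=
      IsIso.of_isIso_comp_right _ (q.adjJp.counit.app (q.jpst.obj N'))
    rw [Functor.map_comp]
    infer_instance
  have hα : IsIso ((q.adjJ.homEquiv N NU).symm (a ≫ biprod.fst)) := by
    let v := q.jst.map (q.fls.map γ)
    have : IsIso v := isIso_jst_fls_map hq γ hjγ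
    have hjT := q.jst.map_distinguished _ hT
    have hinr : q.jst.map biprod.inr ≫ q.jst.map b = -v := by
      rw [← Functor.map_comp, biprod.inr_desc, Functor.map_neg]
    have hd0 : ((q.jst.mapTriangle).obj (Triangle.mk a b d)).mor₃ = 0 := by
      have h2 := comp_distTriang_mor_zero₂₃ _ hjT
      have h3 : (-inv v ≫ q.jst.map biprod.inr) ≫ q.jst.map b = 𝟙 _ := by
        rw [Preadditive.neg_comp, Category.assoc, hinr, Preadditive.comp_neg, neg_neg,
          IsIso.inv_hom_id]
      have h4 := (-inv v ≫ q.jst.map biprod.inr) ≫= h2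
      rw [comp_zero, ← Category.assoc] at h4
      exact (Category.id_comp _).symm.trans ((congrArg (· ≫ _) h3.symm).trans h4)
    have : Mono (q.jst.map a) := (Triangle.mor₃_eq_zero_iff_mono₁ _ hjT).1 hd0
    have hmono : Mono (q.jst.map a ≫ q.jst.map biprod.fst) :=
      Preadditive.mono_of_cancel_zero _ fun {W} z hz => by
        rw [← cancel_mono (q.jst.map a), zero_comp]
        have hy : z ≫ q.jst.map a = (z ≫ q.jst.map a ≫ q.jst.map biprod.snd) ≫ q.jst.map biprod.inr := by
          conv_lhs => rw [← Category.comp_id (q.jst.map a), ← q.jst.map_id, ← biprod.total,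
            Functor.map_add, Preadditive.comp_add, Preadditive.comp_add, Functor.map_comp,
            Functor.map_comp, ← Category.assoc (q.jst.map a), ← Category.assoc z, hz, zero_comp,
            zero_add]
          simp only [Category.assoc]
        have h5 : (z ≫ q.jst.map a ≫ q.jst.map biprod.snd) ≫ v = 0 := by
          rw [← neg_eq_zero, ← Preadditive.comp_neg, ← hinr, ← Category.assoc]
          erw [← hy]
          rw [Category.assoc, ← Functor.map_comp, hab, Functor.map_zero, comp_zero]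
        rw [Preadditive.IsIso.comp_right_eq_zero] at h5
        rw [hy, h5, zero_comp]
    let s₁ := q.jst.map biprod.inl + (q.jst.map biprod.inl ≫ q.jst.map b) ≫ inv v ≫
      q.jst.map biprod.inr
    have hs₁ : s₁ ≫ q.jst.map b = 0 := by
      simp only [s₁, Preadditive.add_comp, Category.assoc, hinr, Preadditive.comp_neg,
        IsIso.inv_hom_id, Category.comp_id, add_neg_cancel]
    obtain ⟨r, hr⟩ := Triangle.coyoneda_exact₂ _ hjT s₁ hs₁
    have hr' : r ≫ q.jst.map a ≫ q.jst.map biprod.fst = 𝟙 _ := by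
      rw [← Category.assoc]
      refine (congrArg (· ≫ q.jst.map biprod.fst) hr.symm).trans ?_
      simp [s₁, ← Functor.map_comp]
    have : IsSplitEpi (q.jst.map a ≫ q.jst.map biprod.fst) := ⟨⟨⟨r, hr'⟩⟩⟩
    have := isIso_of_mono_of_isSplitEpi (q.jst.map a ≫ q.jst.map biprod.fst)
    rw [Adjunction.homEquiv_counit, Functor.map_comp]
    infer_instance
  refine ⟨hα, ?_⟩
  · let β := (q.adjF.homEquiv N N').symm (a ≫ biprod.snd)
    change IsIso β
    have hR : ∀ {K : S}, IsZero (q.jst.obj K) →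
        ∀ w : K ⟶ q.fls.obj (q.jpls.obj (q.gst.obj NU)), w = 0 :=
      fun hK w => hom_fls_jpls_eq_zero q hK w
    have hbij : ∀ {M : S'}, IsZero (q.jpst.obj M) →
        Function.Bijective (fun x : M ⟶ q.fst.obj N => x ≫ β) := by
      intro M hM
      let K := q.fls.obj M
      have hK : IsZero (q.jst.obj K) := isZero_jst_fls q hq.isIso_bcApp hM
      have hc := hq.isIso_counitF M hM
      have hb : Function.Bijective (fun g : K ⟶ N => g ≫ a ≫ biprod.snd) := by
        constructor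
        · suffices hinj : ∀ g : K ⟶ N, g ≫ a ≫ biprod.snd = 0 → g = 0 by
            intro x y hxy
            exact sub_eq_zero.1 (hinj _ (by rw [Preadditive.sub_comp, sub_eq_zero]; exact hxy))
          intro g hg
          have hga : g ≫ a = 0 := by
            apply biprod.hom_ext
            · rw [zero_comp]; exact hom_jls_eq_zero q hK _
            · rw [zero_comp, Category.assoc]; exact hg
          exact Postnikov.Basic.eq_zero_of_comp_mor₁ hT
            (fun w => hR (isZero_jst_shift q hK 1) w) g hga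
        · intro u
          obtain ⟨g, hg⟩ := Triangle.coyoneda_exact₂ _ hT (u ≫ biprod.inr) (hR hK _)
          refine ⟨g, ?_⟩
          change g ≫ a ≫ biprod.snd = u
          exact (Category.assoc _ _ _).symm.trans ((congrArg (· ≫ biprod.snd) hg.symm).trans
            (by simp))
      have hcomp : Function.Bijective (fun g : K ⟶ N => q.fst.map g ≫ β) := by
        have : ∀ g : K ⟶ N, q.fst.map g ≫ β =
            (q.adjF.homEquiv K N').symm (g ≫ a ≫ biprod.snd) := fun g => by
          simp only [β, ← Adjunction.homEquiv_naturality_left_symm]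
        simp only [this]
        exact (Equiv.bijective _).comp hb
      constructor
      · intro x y hxy
        obtain ⟨gx, hgx⟩ := (bijective_fst_map hq hK N).surjective (q.adjF.counit.app M ≫ x)
        obtain ⟨gy, hgy⟩ := (bijective_fst_map hq hK N).surjective (q.adjF.counit.app M ≫ y)
        rw [← cancel_epi (q.adjF.counit.app M), ← hgx, ← hgy]
        exact congrArg (fun g : K ⟶ N => q.fst.map g) (hcomp.injective (by
          change q.fst.map gx ≫ β = q.fst.map gy ≫ β
          simp only at hgx hgy hxy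
          rw [hgx, hgy, Category.assoc, Category.assoc, hxy]))
      · intro w
        obtain ⟨g, hg⟩ := hcomp.surjective (q.adjF.counit.app M ≫ w)
        refine ⟨inv (q.adjF.counit.app M) ≫ q.fst.map g, ?_⟩
        simp only at hg ⊢
        rw [Category.assoc, hg, IsIso.inv_hom_id_assoc]
    have key : q.e.inv.app N ≫ q.gst.map ((q.adjJ.homEquiv N NU).symm (a ≫ biprod.fst)) =
        q.jpst.map β ≫ δ.hom := by
      have h1 : (a ≫ biprod.fst) ≫ q.adjF.unit.app (q.jls.obj NU) ≫ q.fls.map (q.bc2App NU) =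
          (a ≫ biprod.snd) ≫ q.fls.map γ := by
        have := hab
        simp only [b, biprod.desc_eq, Preadditive.comp_add, Preadditive.comp_neg] at this
        rw [← sub_eq_zero, Category.assoc, Category.assoc, sub_eq_add_neg]
        exact this
      have h2 : q.fst.map (a ≫ biprod.fst) ≫ q.bc2App NU = β ≫ γ := by
        apply (q.adjF.homEquiv N _).injective
        rw [Adjunction.homEquiv_naturality_right _ β, Equiv.apply_symm_apply, ← h1,
          Adjunction.homEquiv_unit, Functor.map_comp, ← Category.assoc]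
        exact (congrArg (· ≫ q.fls.map (q.bc2App NU))
          (q.adjF.unit.naturality (a ≫ biprod.fst)).symm).trans (Category.assoc _ _ _)
      have h3 := congrArg (q.adjJp.homEquiv _ _).symm h2
      rw [Adjunction.homEquiv_naturality_left_symm, Adjunction.homEquiv_naturality_left_symm] at h3
      have e3 : (q.adjJp.homEquiv _ _).symm γ = δ.hom := by
        simp [γ, Adjunction.homEquiv_counit]
      have e4 : (q.adjJp.homEquiv _ _).symm (q.bc2App NU) =
          q.e.inv.app (q.jls.obj NU) ≫ q.gst.map (q.adjJ.counit.app NU) := by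
        simp [W4c3perfectstacks.MVSq.bc2App, Adjunction.homEquiv_counit]
      erw [e3, e4] at h3
      rw [← h3, Adjunction.homEquiv_counit, Functor.map_comp q.gst]
      have := q.e.inv.naturality (a ≫ biprod.fst)
      simp only [Functor.comp_map] at this
      rw [reassoc_of% this]
    obtain ⟨K₀, i, h, hT₀⟩ := distinguished_cocone_triangle₁ β
    have hK₀ : IsZero (q.jpst.obj K₀) := by
      refine (Triangle.isZero₁_iff_isIso₂ _ (q.jpst.map_distinguished _ hT₀)).2 ?_
      change IsIso (q.jpst.map β)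
      have := hα
      have : IsIso (q.jpst.map β ≫ δ.hom) := by rw [← key]; infer_instance
      exact IsIso.of_isIso_comp_right _ δ.hom
    have hi : i = 0 := (hbij hK₀).injective (by
      change i ≫ β = 0 ≫ β
      rw [zero_comp]
      exact comp_distTriang_mor_zero₁₂ _ hT₀)
    refine (Triangle.isZero₁_iff_isIso₂ _ hT₀).1 ?_
    obtain ⟨w, hw⟩ := Triangle.coyoneda_exact₁ _ hT₀ (𝟙 (K₀⟦(1 : ℤ)⟧)) (by
      change _ ≫ i⟦(1 : ℤ)⟧' = 0
      rw [hi, Functor.map_zero, comp_zero])
    obtain ⟨x, hx⟩ := (hbij (isZero_jpst_shift q hK₀ 1)).surjective w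
    have hz : 𝟙 (K₀⟦(1 : ℤ)⟧) = 0 := by
      rw [hw, ← hx]
      exact (Category.assoc _ _ _).trans
        ((congrArg (x ≫ ·) (comp_distTriang_mor_zero₂₃ _ hT₀)).trans comp_zero)
    change IsZero K₀
    rw [IsZero.iff_id_eq_zero]
    apply (shiftFunctor S' (1 : ℤ)).map_injective
    rw [CategoryTheory.Functor.map_id, Functor.map_zero, hz]

omit hq in
/-- Descent of generation with supports. -/
theorem descent (hbc : ∀ M : S', IsIso (q.bcApp M))
    (fuc : S ⥤ S') (adjX : q.fls ⊣ fuc)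
    (hX : ∀ N : S, IsZero (q.jst.obj N) → IsZero (q.jpst.obj (fuc.obj N)))
    (hcons : ∀ N : S, IsZero (fuc.obj N) → IsZero N)
    {ι : Type v} (B' : ι → S') (hB'ker : ∀ b, IsZero (q.jpst.obj (B' b)))
    (hB'gen : ∀ M : S', IsZero (q.jpst.obj M) →
      (∀ (b : ι) (n : ℤ) (g : (B' b)⟦n⟧ ⟶ M), g = 0) → IsZero M) :
    (∀ b, IsZero (q.jst.obj (q.fls.obj (B' b)))) ∧
      ∀ N : S, IsZero (q.jst.obj N) →
        (∀ (b : ι) (n : ℤ) (g : (q.fls.obj (B' b))⟦n⟧ ⟶ N), g = 0) → IsZero N := by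
  refine ⟨fun b => isZero_jst_fls q hbc (hB'ker b), fun N hN hz => hcons N ?_⟩
  refine hB'gen _ (hX N hN) fun b n g => ?_
  letI := q.adjF.rightAdjointCommShift ℤ
  apply (adjX.homEquiv _ _).symm.injective
  refine ((cancel_epi ((q.fls.commShiftIso n).inv.app (B' b))).1 ?_)
  rw [hz b n (_ ≫ (adjX.homEquiv _ _).symm g), hz b n (_ ≫ (adjX.homEquiv _ _).symm 0)]

end Groth.Agent.Lib.MVSquare.Basic
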