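import Groth.Agent.Lib.MVSquare.Basic
import Groth.Agent.Lib.DerCat.Compact

/-!
# Compactness is local on a Mayer–Vietoris square
-/

universe v u u'

open CategoryTheory CategoryTheory.Limits CategoryTheory.Pretriangulated
open Groth.Agent.Lib.DerCat.Compact

namespace Groth.Agent.Lib.MVSquare.Compact

set_option backward.isDefEq.respectTransparency false

section Fix

variable {S : Type u} [Category.{v} S] [Preadditive S] [HasCoproducts.{v} S]
  {T : Type u'} [Category.{v} T] [Preadditive T]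

/-- All maps from `K` into the image of a coproduct are fixed by a finite cut. -/
def Fix (F : S ⥤ T) (K : T) : Prop :=
  ∀ (ι : Type v) (X : ι → S) (h : K ⟶ F.obj (∐ X)), ∃ s : Finset ι, h ≫ F.map (cut X s) = h

lemma fix_mono {F : S ⥤ T} {K : T} {ι : Type v} {X : ι → S} {h : K ⟶ F.obj (∐ X)} {s t : Finset ι}
    (hst : s ⊆ t) (hs : h ≫ F.map (cut X s) = h) : h ≫ F.map (cut X t) = h := by
  rw [← hs, Category.assoc, ← F.map_comp, cut_comp X hst]

lemma fix_of_compact [HasCoproducts.{v} T] (F : S ⥤ T) [F.Additive]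
    [∀ ι : Type v, PreservesColimitsOfShape (Discrete ι) F] {K : T}
    (hK : CohDer.IsCompactObject K) : Fix F K := by
  intro ι X h
  let c := sigmaComparison F X
  obtain ⟨s, hs⟩ := exists_cut (fun i => F.obj (X i))
    ((isCompactObject_iff K).1 hK ι _ (h ≫ inv c))
  refine ⟨s, ?_⟩
  have key : c ≫ F.map (cut X s) = cut (fun i => F.obj (X i)) s ≫ c := by
    refine Sigma.hom_ext _ _ fun i => ?_
    classical
    rw [← Category.assoc, ← Category.assoc, ι_comp_sigmaComparison, ← F.map_comp, ι_cut, ι_cut]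
    split_ifs
    · rw [ι_comp_sigmaComparison]
    · rw [F.map_zero, zero_comp]
  calc h ≫ F.map (cut X s) = (h ≫ inv c) ≫ c ≫ F.map (cut X s) := by simp
    _ = (h ≫ inv c) ≫ cut (fun i => F.obj (X i)) s ≫ c := by rw [key]
    _ = h := by rw [← Category.assoc, hs]; simp

variable {U : Type u'} [Category.{v} U] [Preadditive U]

lemma fix_adj {F : S ⥤ T} {L : U ⥤ T} {G : T ⥤ U} (adj : L ⊣ G) {K : U}
    (h : Fix F (L.obj K)) : Fix (F ⋙ G) K := fun ι X g => by
  obtain ⟨s, hs⟩ := h ι X ((adj.homEquiv _ _).symm g)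
  refine ⟨s, (adj.homEquiv _ _).symm.injective ?_⟩
  rw [Functor.comp_map, Adjunction.homEquiv_naturality_right_symm, hs]

lemma fix_of_iso {F F' : S ⥤ T} (e : F ≅ F') {K K' : T} (e' : K ≅ K') (h : Fix F K) :
    Fix F' K' := fun ι X g => by
  obtain ⟨s, hs⟩ := h ι X (e'.hom ≫ g ≫ e.inv.app _)
  refine ⟨s, ?_⟩
  rw [← cancel_epi e'.hom, ← cancel_mono (e.inv.app (∐ X))]
  simp only [Category.assoc] at hs ⊢
  rw [e.inv.naturality]
  exact hs

end Fix

variable {S S' R R' : Type u} [Category.{v} S] [Category.{v} S'] [Category.{v} R] [Category.{v} R']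
  [Preadditive S] [Preadditive S'] [Preadditive R] [Preadditive R']
  [HasZeroObject S] [HasZeroObject S'] [HasZeroObject R] [HasZeroObject R']
  [HasShift S ℤ] [HasShift S' ℤ] [HasShift R ℤ] [HasShift R' ℤ]
  [∀ n : ℤ, (shiftFunctor S n).Additive] [∀ n : ℤ, (shiftFunctor S' n).Additive]
  [∀ n : ℤ, (shiftFunctor R n).Additive] [∀ n : ℤ, (shiftFunctor R' n).Additive]
  [Pretriangulated S] [Pretriangulated S'] [Pretriangulated R] [Pretriangulated R']
  {q : W4c3perfectstacks.MVSq S S' R R'}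
  [q.jst.CommShift ℤ] [q.fst.CommShift ℤ] [q.jpst.CommShift ℤ] [q.gst.CommShift ℤ]
  [q.jst.IsTriangulated] [q.fst.IsTriangulated] [q.jpst.IsTriangulated] [q.gst.IsTriangulated]
  [IsTriangulated S]
  [HasCoproducts.{v} S] [HasCoproducts.{v} S'] [HasCoproducts.{v} R] [HasCoproducts.{v} R']

theorem isCompactObject (hq : q.IsMV) (N : S) (hU : CohDer.IsCompactObject (q.jst.obj N))
    (hX' : CohDer.IsCompactObject (q.fst.obj N))
    (hU' : CohDer.IsCompactObject (q.gst.obj (q.jst.obj N))) :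
    CohDer.IsCompactObject N := by
  have : PreservesColimitsOfSize.{v, v} q.jst := q.adjJ.leftAdjoint_preservesColimits
  have : PreservesColimitsOfSize.{v, v} q.fst := q.adjF.leftAdjoint_preservesColimits
  have : PreservesColimitsOfSize.{v, v} q.gst := q.adjG.leftAdjoint_preservesColimits
  have : q.jls.Additive := q.adjJ.right_adjoint_additive
  have := hq.isIso_bc2App
  let bc2 : q.jls ⋙ q.fst ⟶ q.gst ⋙ q.jpls :=
    { app := q.bc2App
      naturality := fun P P' m => by
        apply (q.adjJp.homEquiv _ _).symm.injective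
        simp only [Functor.comp_map, Adjunction.homEquiv_naturality_left_symm,
          Adjunction.homEquiv_naturality_right_symm]
        simp only [W4c3perfectstacks.MVSq.bc2App, Adjunction.homEquiv_counit, Functor.map_comp,
          Category.assoc, Adjunction.counit_naturality, Adjunction.counit_naturality_assoc,
          Adjunction.left_triangle_components_assoc]
        erw [q.adjJp.left_triangle_components_assoc, q.adjJp.left_triangle_components_assoc]
        have h1 := q.e.inv.naturality (q.jls.map m)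
        simp only [Functor.comp_map] at h1
        rw [reassoc_of% h1, ← q.gst.map_comp, ← q.gst.map_comp, q.adjJ.counit_naturality] }
  have : IsIso bc2 := NatIso.isIso_of_isIso_app _
  have hE1 : Fix (q.jst ⋙ q.jls) N := fix_adj q.adjJ (fix_of_compact q.jst hU)
  have hE2 : Fix (q.fst ⋙ q.fls) N := fix_adj q.adjF (fix_of_compact q.fst hX')
  have hR : Fix (((q.jst ⋙ q.jls) ⋙ q.fst) ⋙ q.fls) (N⟦(1 : ℤ)⟧) := by
    refine fix_adj q.adjF ?_
    refine fix_of_iso (F := (q.jst ⋙ q.gst) ⋙ q.jpls) ?_ (Iso.refl _) ?_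
    · exact Functor.associator _ _ _ ≪≫ (Functor.isoWhiskerLeft q.jst (asIso bc2)).symm ≪≫
        (Functor.associator _ _ _).symm
    · refine fix_adj q.adjJp (fix_of_compact (q.jst ⋙ q.gst) ?_)
      exact isCompactObject_of_iso ((((q.jst ⋙ q.gst).commShiftIso (1 : ℤ)).app N).symm ≪≫
        q.e.app _) (isCompactObject_shift hU' 1)
  refine (isCompactObject_iff N).2 fun ι X φ => ?_
  choose d hd using fun M : S => (Basic.existsUnique_mv hq M).exists
  obtain ⟨s₁, h₁⟩ := hE1 ι X (φ ≫ q.adjJ.unit.app (∐ X))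
  obtain ⟨s₂, h₂⟩ := hE2 ι X (φ ≫ q.adjF.unit.app (∐ X))
  classical
  have hs₁ := fix_mono (F := q.jst ⋙ q.jls) (Finset.subset_union_left (s₂ := s₂)) h₁
  have hs₂ := fix_mono (F := q.fst ⋙ q.fls) (Finset.subset_union_right (s₁ := s₁)) h₂
  have hψa : (φ - φ ≫ cut X (s₁ ∪ s₂)) ≫
      biprod.lift (q.adjJ.unit.app (∐ X)) (q.adjF.unit.app (∐ X)) = 0 := by
    have n₁ := q.adjJ.unit.naturality (cut X (s₁ ∪ s₂))
    have n₂ := q.adjF.unit.naturality (cut X (s₁ ∪ s₂))
    simp only [Functor.id_map] at n₁ n₂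
    apply biprod.hom_ext
    · rw [zero_comp, Category.assoc, biprod.lift_fst, Preadditive.sub_comp, Category.assoc]
      erw [n₁]
      rw [sub_eq_zero, ← Category.assoc]
      exact hs₁.symm
    · rw [zero_comp, Category.assoc, biprod.lift_snd, Preadditive.sub_comp, Category.assoc]
      erw [n₂]
      rw [sub_eq_zero, ← Category.assoc]
      exact hs₂.symm
  obtain ⟨r, hr⟩ := Triangle.coyoneda_exact₁ _ (hd (∐ X))
    ((φ - φ ≫ cut X (s₁ ∪ s₂))⟦(1 : ℤ)⟧') (by
      change _ ≫ (biprod.lift _ _)⟦(1 : ℤ)⟧' = 0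
      rw [← Functor.map_comp, hψa, Functor.map_zero])
  obtain ⟨t, ht⟩ := hR ι X r
  have hψ : (φ - φ ≫ cut X (s₁ ∪ s₂)) ≫ cut X t = φ - φ ≫ cut X (s₁ ∪ s₂) := by
    apply (shiftFunctor S (1 : ℤ)).map_injective
    rw [Functor.map_comp, hr]
    have nat := Basic.mv_natural hq (cut X t) _ _ (hd (∐ X)) (hd (∐ X))
    refine (Category.assoc _ _ _).trans ((congrArg (r ≫ ·) nat).trans ?_)
    exact (Category.assoc _ _ _).symm.trans (congrArg (· ≫ d (∐ X)) ht)
  have := AddSubgroup.add_mem _ (comp_cut_mem_range X (φ - φ ≫ cut X (s₁ ∪ s₂)) t)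
    (comp_cut_mem_range X φ (s₁ ∪ s₂))
  rw [hψ, sub_add_cancel] at this
  exact this

end Groth.Agent.Lib.MVSquare.Compact
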